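import Mathlib
import Groth.Prelude.Def_ARSys
import Groth.Agent.FFun.GenModule
import Groth.Agent.Algz7.Canonical

/-! Mittag-Leffler and topology of the limit of a system from finite generation of the graded pieces. -/

set_option autoImplicit false
universe u

open CategoryTheory CategoryTheory.Limits Opposite

namespace Groth.Agent.Algz7.Canon2

variable {A : Type u} [CommRing A]

theorem imageSubobject_le_of_range_le {P Q R : ModuleCat.{u} A} (f : P ⟶ R) (g : Q ⟶ R)
    (h : LinearMap.range f.hom ≤ LinearMap.range g.hom) : imageSubobject f ≤ imageSubobject g := by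
  refine imageSubobject_le f (kernel.lift (cokernel.π g) f ?_ ≫ (Abelian.imageIsoImage g).hom ≫
    (imageSubobjectIso g).inv) ?_
  · refine ModuleCat.hom_ext (LinearMap.ext fun x => ?_)
    obtain ⟨y, hy⟩ := h (LinearMap.mem_range_self f.hom x)
    show cokernel.π g (f x) = 0
    rw [show f x = g y from hy.symm]
    exact congr($(cokernel.condition g) y)
  · rw [Category.assoc, Category.assoc, imageSubobject_arrow', Abelian.imageIsoImage_hom_comp_image_ι]
    exact kernel.lift_ι _ _ _

theorem criterion [IsNoetherianRing A] {r : ℕ} (I : Ideal A) (a : Fin r → A) (ha : ∀ i, a i ∈ I)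
    (X : ℕᵒᵖ ⥤ ModuleCat.{u} A) (hk : ∀ i, ∀ x : X.obj (op 0), a i • x = 0)
    (μ : ∀ n, Fin r → (X.obj (op n) →ₗ[A] X.obj (op (n + 1))))
    (hμp : ∀ n i (x : X.obj (op (n + 1))), μ n i (ARSys.tr X (Nat.le_succ n) x) = a i • x)
    (hpμ : ∀ n i (x : X.obj (op n)), ARSys.tr X (Nat.le_succ n) (μ n i x) = a i • x)
    (hμμ : ∀ n i j (x : X.obj (op n)), μ (n + 1) i (μ n j x) = μ (n + 1) j (μ n i x))
    (Q : ℕ → Type u) [∀ n, AddCommGroup (Q n)] [∀ n, Module A (Q n)]
    (t : ∀ n, Fin r → (Q n →ₗ[A] Q (n + 1)))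
    (htt : ∀ n i j (x : Q n), t (n + 1) i (t n j x) = t (n + 1) j (t n i x))
    (δ : ∀ n, X.obj (op n) →ₗ[A] Q n)
    (hδ : ∀ n (x : X.obj (op n)), δ n x = 0 ↔ ∃ y, ARSys.tr X (Nat.le_succ n) y = x)
    (hδμ : ∀ n i (x : X.obj (op n)), δ (n + 1) (μ n i x) = t n i (δ n x))
    (hX0 : Module.Finite A (X.obj (op 0))) (hQ0 : Module.Finite A (Q 0))
    (hK0 : (LinearMap.ker (ARSys.tr X (Nat.le_succ 0)).hom).FG)
    (hgQ : ∀ n, ⨆ i, LinearMap.range (t n i) = ⊤)
    (hgK : ∀ n, LinearMap.ker (ARSys.tr X (Nat.le_succ (n + 1))).hom ≤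
      ⨆ i, (LinearMap.ker (ARSys.tr X (Nat.le_succ n)).hom).map (μ (n + 1) i)) :
    ARSys.IsML X ∧
      (∀ k : ℕ, ∃ n : ℕ, LinearMap.ker (limit.π X (op n)).hom ≤ I ^ k • (⊤ : Submodule A ↑(limit X))) ∧
      ∀ n, Module.Finite A (X.obj (op n)) := by
  classical
  have trX : ∀ {p q s : ℕ} (h₁ : p ≤ q) (h₂ : q ≤ s) (z : X.obj (op s)),
      ARSys.tr X h₁ (ARSys.tr X h₂ z) = ARSys.tr X (h₁.trans h₂) z := fun h₁ h₂ z =>
    congr($((X.map_comp (homOfLE h₂).op (homOfLE h₁).op).symm) z)
  have trS : ∀ (p : ℕ) (z : X.obj (op p)), ARSys.tr X le_rfl z = z := fun p z => congr($(X.map_id (op p)) z)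
  -- reduction of `μ x`
  have trμ : ∀ (k m : ℕ) (h : k + 1 ≤ m) (i : Fin r) (x : X.obj (op m)),
      ARSys.tr X (Nat.succ_le_succ ((Nat.le_succ k).trans h)) (μ m i x) = μ k i (ARSys.tr X ((Nat.le_succ k).trans h) x) := by
    intro k m h i x
    rw [← trX h (Nat.le_succ m), hpμ, map_smul, ← trX (Nat.le_succ k) h, hμp]
  have trμ0 : ∀ (m : ℕ) (i : Fin r) (x : X.obj (op m)), ARSys.tr X (Nat.zero_le (m + 1)) (μ m i x) = 0 := by
    intro m i x
    rw [← trX (Nat.zero_le m) (Nat.le_succ m), hpμ, map_smul]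
    exact hk i _
  let K : ∀ n, Submodule A (X.obj (op (n + 1))) := fun n => LinearMap.ker (ARSys.tr X (Nat.le_succ n)).hom
  have hKμ : ∀ n i, ∀ x ∈ K n, μ (n + 1) i x ∈ K (n + 1) := by
    intro n i x hx
    show ARSys.tr X (Nat.le_succ (n + 1)) (μ (n + 1) i x) = 0
    rw [hpμ, ← hμp n i x, show ARSys.tr X (Nat.le_succ n) x = 0 from hx, map_zero]
  have hKfg : ∀ n, (K n).FG := by
    intro n
    induction n with
    | zero => exact hK0
    | succ n ih =>
      have e : K (n + 1) = ⨆ i, (K n).map (μ (n + 1) i) :=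
        le_antisymm (hgK n) (iSup_le fun i => Submodule.map_le_iff_le_comap.2 fun x hx => hKμ n i x hx)
      rw [e]
      exact Submodule.fg_iSup _ fun i => ih.map _
  have hXfin : ∀ n, Module.Finite A (X.obj (op n)) := by
    intro n
    induction n with
    | zero => exact hX0
    | succ n ih =>
      exact ⟨Submodule.fg_of_fg_map_of_fg_inf_ker (ARSys.tr X (Nat.le_succ n)).hom
        (IsNoetherian.noetherian _) (by rw [top_inf_eq]; exact hKfg n)⟩
  have hQfin : ∀ n, Module.Finite A (Q n) := by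
    intro n
    induction n with
    | zero => exact hQ0
    | succ n ih =>
      refine ⟨?_⟩
      rw [← hgQ n]
      exact Submodule.fg_iSup _ fun i => by rw [← Submodule.map_top]; exact (Module.Finite.fg_top).map _
  -- lifting with small correction
  obtain ⟨d, hd⟩ := FFun.Gen.exists_gen_sub (R := A) (H := Q) t htt (d₀ := 0) (fun n _ => hgQ n)
    (fun n => LinearMap.range (δ n))
    (by rintro n i _ ⟨x, rfl⟩; exact ⟨μ n i x, hδμ n i x⟩)
  have hcorr : ∀ (k : ℕ) (x : X.obj (op (d + k + 1))), ∃ w, δ (d + k + 1) w = δ (d + k + 1) x ∧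
      ARSys.tr X (show k ≤ d + k + 1 by omega) w = 0 := by
    intro k
    induction k with
    | zero =>
      intro x
      obtain ⟨f, hf, hfs⟩ := (Submodule.mem_iSup_iff_exists_finsupp _ _).1
        (hd d le_rfl ⟨x, rfl⟩ : δ (d + 1) x ∈ _)
      choose v hv hvf using hf
      choose y hy using hv
      refine ⟨∑ i, μ d i (y i), ?_, ?_⟩
      · rw [map_sum]
        refine Eq.trans (Finset.sum_congr rfl fun i _ => ?_) ((Finsupp.sum_fintype f _ fun _ => rfl).symm.trans hfs)
        rw [hδμ, hy i, hvf i]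
      · rw [map_sum]
        exact Finset.sum_eq_zero fun i _ => trμ0 _ i _
    | succ k ih =>
      intro x
      obtain ⟨f, hf, hfs⟩ := (Submodule.mem_iSup_iff_exists_finsupp _ _).1
        (hd (d + k + 1) (by omega) ⟨x, rfl⟩ : δ (d + k + 1 + 1) x ∈ _)
      choose v hv hvf using hf
      choose y hy using hv
      choose w hw hw0 using fun i => ih (y i)
      refine ⟨∑ i, μ (d + k + 1) i (w i), ?_, ?_⟩
      · rw [map_sum]
        refine Eq.trans (Finset.sum_congr rfl fun i _ => ?_) ((Finsupp.sum_fintype f _ fun _ => rfl).symm.trans hfs)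
        exact ((hδμ (d + k + 1) i (w i)).trans (congrArg (t (d + k + 1) i) ((hw i).trans (hy i)))).trans (hvf i)
      · rw [map_sum]
        refine Finset.sum_eq_zero fun i _ => ?_
        refine (trμ k (d + k + 1) (by omega) i (w i)).trans ?_
        rw [hw0 i, map_zero]
  have hstep : ∀ (k : ℕ) (x : X.obj (op (d + k + 1))), ∃ x' : X.obj (op (d + (k + 1) + 1)),
      ARSys.tr X (show k ≤ d + (k + 1) + 1 by omega) x' = ARSys.tr X (show k ≤ d + k + 1 by omega) x := by
    intro k x
    obtain ⟨w, hw, hw0⟩ := hcorr k x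
    obtain ⟨x', hx'⟩ := (hδ (d + k + 1) (x - w)).1 (by rw [map_sub, hw, sub_self])
    refine ⟨x', ?_⟩
    have h := trX (show k ≤ d + k + 1 by omega) (Nat.le_succ (d + k + 1)) x'
    rw [hx', map_sub, hw0, sub_zero] at h
    exact h.symm
  have hlim : ∀ (n : ℕ) (x : X.obj (op (d + n + 1))), ∃ y : (limit X : ModuleCat A),
      limit.π X (op n) y = ARSys.tr X (show n ≤ d + n + 1 by omega) x := by
    intro n x
    choose nx hnx using hstep
    have hex : ∀ j, ∃ v : X.obj (op (d + (n + j) + 1)), True := fun j => ⟨0, trivial⟩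
    let V : ∀ j, X.obj (op (d + (n + j) + 1)) := fun j =>
      Nat.rec (motive := fun j => X.obj (op (d + (n + j) + 1))) x (fun j v => nx (n + j) v) j
    have hV : ∀ j, ARSys.tr X (show n + j ≤ d + (n + (j + 1)) + 1 by omega) (V (j + 1)) =
        ARSys.tr X (show n + j ≤ d + (n + j) + 1 by omega) (V j) := fun j => hnx (n + j) (V j)
    let y : ∀ j, X.obj (op j) := fun j => ARSys.tr X (show j ≤ d + (n + j) + 1 by omega) (V j)
    have hy : ∀ j, ARSys.tr X (show n ≤ d + (n + j) + 1 by omega) (V j) =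
        ARSys.tr X (show n ≤ d + n + 1 by omega) x := by
      intro j
      induction j with
      | zero => rfl
      | succ j ih =>
        rw [← ih, ← trX (Nat.le_add_right n j) (show n + j ≤ d + (n + (j + 1)) + 1 by omega), hV, trX]
    obtain ⟨z, hz⟩ := exists_lift_limit X y fun j => by
      show ARSys.tr X (Nat.le_succ j) (ARSys.tr X (show j + 1 ≤ d + (n + (j + 1)) + 1 by omega) (V (j + 1))) =
        ARSys.tr X (show j ≤ d + (n + j) + 1 by omega) (V j)
      rw [trX, ← trX (Nat.le_add_left j n) (show n + j ≤ d + (n + (j + 1)) + 1 by omega), hV, trX]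
    exact ⟨z, (hz n).trans (hy n)⟩
  have hML : ARSys.IsML X := by
    intro n
    refine ⟨d + 1, fun s hs => ?_⟩
    have hle : ∀ s, d + 1 ≤ s → ∀ s', LinearMap.range (ARSys.tr X (Nat.le_add_right n s)).hom ≤
        LinearMap.range (ARSys.tr X (Nat.le_add_right n s')).hom := by
      rintro s hs s' _ ⟨x, rfl⟩
      obtain ⟨z, hz⟩ := hlim n (ARSys.tr X (show d + n + 1 ≤ n + s by omega) x)
      refine ⟨limit.π X (op (n + s')) z, ?_⟩
      refine (congr($(limit.w X (homOfLE (Nat.le_add_right n s')).op) z)).trans (hz.trans ?_)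
      exact trX _ _ x
    exact le_antisymm (imageSubobject_le_of_range_le _ _ (hle s hs (d + 1)))
      (imageSubobject_le_of_range_le _ _ (hle (d + 1) le_rfl s))
  refine ⟨hML, ?_, hXfin⟩
  -- topology of the limit
  let L : Type u := ↑(limit X)
  have trπ : ∀ {p q : ℕ} (h : p ≤ q) (y : (limit X : ModuleCat A)),
      ARSys.tr X h (limit.π X (op q) y) = limit.π X (op p) y := fun h y =>
    congr($(limit.w X (homOfLE h).op) y)
  let T : ∀ n, Fin r → (K n →ₗ[A] K (n + 1)) := fun n i =>
    ((μ (n + 1) i).comp (K n).subtype).codRestrict _ fun x => hKμ n i x x.2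
  haveI : ∀ n, Module.Finite A (K n) := fun n => Module.Finite.iff_fg.2 (hKfg n)
  let F : ∀ n, Submodule A (limit X : ModuleCat A) := fun n => LinearMap.ker (limit.π X (op n)).hom
  let E : ∀ n, Submodule A (K n) := fun n =>
    Submodule.comap (K n).subtype ((F n).map (limit.π X (op (n + 1))).hom)
  have hgT : ∀ n, 0 ≤ n → ⨆ i, LinearMap.range (T n i) = ⊤ := by
    intro n _
    rw [eq_top_iff]
    rintro ⟨x, hx⟩ _
    obtain ⟨f, hf, hfs⟩ := (Submodule.mem_iSup_iff_exists_finsupp _ _).1 (hgK n hx)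
    choose y hy hyf using hf
    have e : (⟨x, hx⟩ : K (n + 1)) = ∑ i, T n i ⟨y i, hy i⟩ := by
      refine Subtype.ext ?_
      rw [AddSubmonoidClass.coe_finset_sum]
      exact (hfs.symm.trans (Finsupp.sum_fintype f _ fun _ => rfl)).trans
        (Finset.sum_congr rfl fun i _ => (hyf i).symm)
    rw [e]
    exact Submodule.sum_mem _ fun i _ => le_iSup (fun i => LinearMap.range (T n i)) i ⟨_, rfl⟩
  have hμπ : ∀ n i (z : (limit X : ModuleCat A)),
      μ n i (limit.π X (op n) z) = limit.π X (op (n + 1)) (a i • z) := by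
    intro n i z
    rw [← trπ (Nat.le_succ n) z, hμp, map_smul]
  obtain ⟨e, he⟩ := FFun.Gen.exists_gen_sub (R := A) (H := fun n => K n) T
    (fun n i j x => Subtype.ext (hμμ (n + 1) i j x.1)) (d₀ := 0) hgT E (by
      rintro n i ⟨x, hx⟩ ⟨z, hz, hzx⟩
      refine ⟨a i • z, ?_, ?_⟩
      · show limit.π X (op (n + 1)) (a i • z) = 0
        rw [← hμπ, show limit.π X (op n) z = 0 from hz, map_zero]
      · show limit.π X (op (n + 1 + 1)) (a i • z) = μ (n + 1) i x
        rw [← hμπ]
        exact congrArg _ hzx)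
  have hdec : ∀ m, e ≤ m → ∀ y ∈ F (m + 1), ∃ z : Fin r → (limit X : ModuleCat A),
      (∀ i, z i ∈ F m) ∧ y - ∑ i, a i • z i ∈ F (m + 2) := by
    intro m hm y hy
    have hyK : limit.π X (op (m + 1 + 1)) y ∈ K (m + 1) := (trπ _ y).trans hy
    obtain ⟨f, hf, hfs⟩ := (Submodule.mem_iSup_iff_exists_finsupp _ _).1
      (he m hm (show (⟨_, hyK⟩ : K (m + 1)) ∈ E (m + 1) from ⟨y, hy, rfl⟩))
    choose v hv hvf using hf
    choose z hz hzv using hv
    refine ⟨z, hz, ?_⟩
    show limit.π X (op (m + 2)) (y - ∑ i, a i • z i) = 0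
    rw [map_sub, map_sum, sub_eq_zero]
    have h := congrArg Subtype.val hfs
    rw [Finsupp.sum_fintype f _ fun _ => rfl, AddSubmonoidClass.coe_finset_sum] at h
    refine h.symm.trans (Finset.sum_congr rfl fun i _ => ?_)
    rw [← hvf i, ← hμπ]
    exact congrArg (μ (m + 1) i) (hzv i).symm
  choose Z hZ hZd using hdec
  have hmain : ∀ m, e ≤ m → ∀ y ∈ F (m + 1), ∃ w : Fin r → (limit X : ModuleCat A),
      (∀ i, w i ∈ F m) ∧ y = ∑ i, a i • w i := by
    intro m hm y hy
    let Y : ∀ j, F (m + j + 1) := fun j => Nat.rec (motive := fun j => F (m + j + 1)) ⟨y, hy⟩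
      (fun j v => ⟨_, hZd (m + j) (hm.trans (Nat.le_add_right m j)) v.1 v.2⟩) j
    let z : ℕ → Fin r → (limit X : ModuleCat A) := fun j => Z (m + j) (hm.trans (Nat.le_add_right m j)) (Y j).1 (Y j).2
    have hz : ∀ j i, z j i ∈ F (m + j) := fun j => hZ _ _ _ _
    have hY : ∀ j, (Y (j + 1)).1 = (Y j).1 - ∑ i, a i • z j i := fun j => rfl
    have hsum : ∀ j, y - ∑ i, a i • ∑ l ∈ Finset.range j, z l i = (Y j).1 := by
      intro j
      induction j with
      | zero => simp [Y]
      | succ j ih =>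
        rw [hY, ← ih]
        simp only [Finset.sum_range_succ, smul_add, Finset.sum_add_distrib]
        abel
    have hlt : ∀ {p q : ℕ}, p ≤ q → ∀ v ∈ F q, limit.π X (op p) v = 0 := fun h v hv => by
      rw [← trπ h v, show limit.π X (op _) v = 0 from hv, map_zero]
    have hex : ∀ i, ∃ w : (limit X : ModuleCat A), ∀ j, limit.π X (op j) w =
        limit.π X (op j) (∑ l ∈ Finset.range j, z l i) := fun i => by
      obtain ⟨w, hw⟩ := exists_lift_limit X (fun j => limit.π X (op j) (∑ l ∈ Finset.range j, z l i))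
        (fun j => by
          show ARSys.tr X (Nat.le_succ j) (limit.π X (op (j + 1)) _) = _
          rw [trπ, Finset.sum_range_succ, map_add, hlt (Nat.le_add_left j m) _ (hz j i), add_zero])
      exact ⟨w, hw⟩
    choose w hw using hex
    refine ⟨w, fun i => ?_, Concrete.limit_ext X _ _ fun ⟨j⟩ => ?_⟩
    · show limit.π X (op m) (w i) = 0
      rw [hw, map_sum]
      exact Finset.sum_eq_zero fun l _ => hlt (Nat.le_add_right m l) _ (hz l i)
    · have h := congrArg (limit.π X (op j)) (hsum j)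
      rw [map_sub, hlt (show j ≤ m + j + 1 by omega) _ (Y j).2, sub_eq_zero, map_sum] at h
      show limit.π X (op j) y = limit.π X (op j) (∑ i, a i • w i)
      rw [h, map_sum]
      exact Finset.sum_congr rfl fun i _ => by rw [map_smul, map_smul, hw]
  intro k
  refine ⟨e + k, ?_⟩
  induction k with
  | zero => simp
  | succ k ih =>
    intro y hy
    obtain ⟨w, hw, rfl⟩ := hmain (e + k) (Nat.le_add_right e k) y hy
    refine Submodule.sum_mem _ fun i _ => ?_
    rw [pow_succ', Submodule.mul_smul]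
    exact Submodule.smul_mem_smul (ha i) (ih (hw i))

end Groth.Agent.Algz7.Canon2
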