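import Mathlib
import Groth.Prelude.Def_Algz
import Groth.Agent.Algz7.CohFormal
import Groth.Agent.Algz7.Canon2.Abs
import Groth.Agent.PnCoh.Finite.HHLin
import Groth.Agent.FFun.Basic
import Groth.Agent.QCoh.ProperFinite

/-! Canonical extension from the structure of the graded pieces of an object of Coh(U, I). -/

set_option autoImplicit false
set_option backward.isDefEq.respectTransparency false
set_option backward.isDefEq.respectTransparency.types false
universe u

open CategoryTheory CategoryTheory.Limits AlgebraicGeometry Opposite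
open Groth.Agent.PnCoh.Finite (mapLin deltaLin)

noncomputable section

attribute [local instance] Groth.Agent.QCoh.hasFiniteBiproducts

namespace Groth.Agent.Algz7.Canon2

variable {A : Type u} [CommRing A] {X : Scheme.{u}} [X.Over (Spec (CommRingCat.of A))]
  {I : Ideal A} {G : ℕᵒᵖ ⥤ X.Modules}

/-- Multiplication by an element of `I` from one term to the next. -/
theorem exists_mu (hG : Formal.IsCohFormal I G) (n : ℕ) {a : A} (ha : a ∈ I) :
    ∃ ψ : G.obj (op n) ⟶ G.obj (op (n + 1)),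
      ARSys.tr G (Nat.le_succ n) ≫ ψ = Formal.smulMod A (G.obj (op (n + 1))) a := by
  obtain ⟨h0, hiso⟩ := hG.2.2 n
  haveI := hiso
  have h1 : Formal.smulFamily (I ^ (n + 1)) (G.obj (op (n + 1))) ≫
      Formal.smulMod A (G.obj (op (n + 1))) a = 0 := by
    refine Sigma.hom_ext _ _ fun b => ?_
    rw [← Category.assoc, comp_zero, Formal.smulFamily, Sigma.ι_desc, ← FFun.smulMod_mul]
    exact hG.2.1 (n + 1) (a * (b : A)) (pow_succ' I (n + 1) ▸ Ideal.mul_mem_mul ha b.2)
  refine ⟨inv (cokernel.desc _ _ h0) ≫ cokernel.desc _ _ h1, ?_⟩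
  have e : ARSys.tr G (Nat.le_succ n) ≫ inv (cokernel.desc _ _ h0) = cokernel.π _ := by
    rw [IsIso.comp_inv_eq, cokernel.π_desc]
  rw [← Category.assoc, e, cokernel.π_desc]

/-- The product of elements along a monomial. -/
def mon {r : ℕ} {n : ℕ} (a : Fin r → A) (s : Sym (Fin r) n) : A := ((s : Multiset (Fin r)).map a).prod

theorem mon_cons {r n : ℕ} (a : Fin r → A) (i : Fin r) (s : Sym (Fin r) n) :
    mon a (i ::ₛ s) = a i * mon a s := by
  rw [mon, mon, Sym.coe_cons, Multiset.map_cons, Multiset.prod_cons]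

theorem mon_mem {r : ℕ} (a : Fin r → A) (ha : ∀ i, a i ∈ I) :
    ∀ (n : ℕ) (s : Sym (Fin r) n), mon a s ∈ I ^ n := by
  intro n
  induction n with
  | zero => intro s; simp
  | succ n ih =>
    intro s
    obtain ⟨i, s', rfl⟩ := Sym.exists_eq_cons_of_succ s
    rw [mon_cons, pow_succ']
    exact Ideal.mul_mem_mul (ha i) (ih s')

theorem exists_word (hG : Formal.IsCohFormal I G) {r : ℕ} (a : Fin r → A) (ha : ∀ i, a i ∈ I) :
    ∀ (n : ℕ) (s : Sym (Fin r) n), ∃ w : G.obj (op 0) ⟶ G.obj (op n),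
      ARSys.tr G (Nat.zero_le n) ≫ w = Formal.smulMod A (G.obj (op n)) (mon a s) := by
  intro n
  induction n with
  | zero =>
    intro s
    refine ⟨𝟙 _, ?_⟩
    have e : mon a s = 1 := by simp [mon, Subsingleton.elim s Sym.nil]
    rw [e, FFun.smulMod_one, tr_refl, Category.comp_id]
  | succ n ih =>
    intro s
    obtain ⟨i, s', rfl⟩ := Sym.exists_eq_cons_of_succ s
    obtain ⟨w, hw⟩ := ih s'
    obtain ⟨ψ, hψ⟩ := exists_mu hG n (ha i)
    refine ⟨w ≫ ψ, ?_⟩
    rw [← tr_trans G (Nat.zero_le n) (Nat.le_succ n), Category.assoc, ← Category.assoc (ARSys.tr G (Nat.zero_le n)),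
      hw, mon_cons, ← Category.assoc, ← smulMod_naturality, Category.assoc, hψ, FFun.smulMod_mul]

theorem mapLin_id' (M : X.Modules) (p : ℕ) (x : Coh.HH X M p) : mapLin A (𝟙 M) p x = x := by
  show Sheaf.H.map ((QCoh.toAbFunctor X).map (𝟙 _)) p x = x
  rw [CategoryTheory.Functor.map_id, Sheaf.H.map_id_apply]

theorem mapLin_zero' (M N : X.Modules) (p : ℕ) (x : Coh.HH X M p) : mapLin A (0 : M ⟶ N) p x = 0 := by
  show Sheaf.H.map ((QCoh.toAbFunctor X).map 0) p x = 0
  rw [Functor.map_zero]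
  show ((Sheaf.functorH _ p).map 0).hom x = 0
  rw [Functor.map_zero]
  rfl

theorem mapLin_sum' {M N : X.Modules} {ι : Type*} (s : Finset ι) (φ : ι → (M ⟶ N)) (p : ℕ) (x : Coh.HH X M p) :
    mapLin A (∑ b ∈ s, φ b) p x = ∑ b ∈ s, mapLin A (φ b) p x := by
  classical
  induction s using Finset.induction with
  | empty => rw [Finset.sum_empty, Finset.sum_empty]; exact mapLin_zero' M N p x
  | insert a s ha ih =>
    rw [Finset.sum_insert ha, Finset.sum_insert ha, ← ih]
    show Sheaf.H.map ((QCoh.toAbFunctor X).map (_ + _)) p x = _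
    rw [Functor.map_add, Sheaf.H.map_add_apply]
    rfl

theorem exists_of_map_g_eq_zero {Y : TopCat.{u}} {T : ShortComplex (CohTop.Ab Y)} (hT : T.ShortExact) (p : ℕ)
    (x : Sheaf.H T.X₂ p) (h : Sheaf.H.map T.g p x = 0) : ∃ y, Sheaf.H.map T.f p y = x :=
  Abelian.Ext.covariant_sequence_exact₂ _ hT x h

theorem exists_of_mapLin_g_eq_zero {S : ShortComplex X.Modules} (hS : S.ShortExact) (p : ℕ)
    {x : Coh.HH X S.X₂ p} (h : mapLin A S.g p x = 0) : ∃ y, mapLin A S.f p y = x :=
  exists_of_map_g_eq_zero (Y := X.toPresheafedSpace.carrier) (QCoh.toAb_shortExact hS) p x h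

/-- The criterion on `X`, with the sections read through a linear identification. -/
theorem criterion_sheaf [IsNoetherianRing A] (hG : Formal.IsCohFormal I G) {r : ℕ} (a : Fin r → A)
    (ha : ∀ i, a i ∈ I)
    (hsplit : ∀ n, ∃ S : Finset (Sym (Fin r) (n + 1)),
      ∀ ν : ULift.{u} S → (G.obj (op 0) ⟶ kernel (ARSys.tr G (Nat.le_succ n))),
        (∀ s, ARSys.tr G (Nat.zero_le (n + 1)) ≫ ν s ≫ kernel.ι (ARSys.tr G (Nat.le_succ n)) =
          Formal.smulMod A (G.obj (op (n + 1))) (mon a s.down.1)) →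
        IsIso (biproduct.desc ν))
    (h0 : Module.Finite A (Coh.HH X (G.obj (op 0)) 0)) (h1 : Module.Finite A (Coh.HH X (G.obj (op 0)) 1))
    (Y : ℕᵒᵖ ⥤ ModuleCat.{u} A) (e : ∀ n, Coh.HH X (G.obj (op n)) 0 ≃ₗ[A] Y.obj (op n))
    (he : ∀ n (x : Coh.HH X (G.obj (op (n + 1))) 0), ARSys.tr Y (Nat.le_succ n) (e (n + 1) x) =
      e n (mapLin A (ARSys.tr G (Nat.le_succ n)) 0 x)) :
    ARSys.IsML Y ∧
      (∀ k : ℕ, ∃ n : ℕ, LinearMap.ker (limit.π Y (op n)).hom ≤ I ^ k • (⊤ : Submodule A ↑(limit Y))) ∧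
      ∀ n, Module.Finite A (Y.obj (op n)) := by
  classical
  choose μ hμ using fun n (i : Fin r) => exists_mu hG n (ha i)
  let p : ∀ n, G.obj (op (n + 1)) ⟶ G.obj (op n) := fun n => ARSys.tr G (Nat.le_succ n)
  have hepi : ∀ n, Epi (p n) := fun n => epi_step hG n
  have hμp : ∀ n i, p n ≫ μ n i = Formal.smulMod A _ (a i) := hμ
  have hpμ : ∀ n i, μ n i ≫ p n = Formal.smulMod A _ (a i) := by
    intro n i
    haveI := hepi n
    rw [← cancel_epi (p n), ← Category.assoc, hμp, smulMod_naturality]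
  have hcomm : ∀ n i j, μ n j ≫ μ (n + 1) i = μ n i ≫ μ (n + 1) j := by
    intro n i j
    haveI := hepi n
    haveI := hepi (n + 1)
    have key : ∀ k l, p (n + 1) ≫ Formal.smulMod A (G.obj (op (n + 1))) (a l) ≫ μ (n + 1) k =
        Formal.smulMod A (G.obj (op (n + 1 + 1))) (a k * a l) := fun k l => by
      rw [← Category.assoc, ← smulMod_naturality (p (n + 1)) (a l), Category.assoc, hμp,
        FFun.smulMod_mul]
    rw [← cancel_epi (p n), ← Category.assoc, hμp, ← Category.assoc (p n), hμp, ← cancel_epi (p (n + 1)),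
      key, key, mul_comm]
  let P : ℕ → X.Modules := fun n => kernel (p n)
  have ht : ∀ n i, (kernel.ι (p n) ≫ μ (n + 1) i) ≫ p (n + 1) = 0 := by
    intro n i
    rw [Category.assoc, hpμ, ← hμp, ← Category.assoc, kernel.condition, zero_comp]
  let t : ∀ n, Fin r → (P n ⟶ P (n + 1)) := fun n i => kernel.lift (p (n + 1)) _ (ht n i)
  have htι : ∀ n i, t n i ≫ kernel.ι (p (n + 1)) = kernel.ι (p n) ≫ μ (n + 1) i := fun n i => kernel.lift_ι _ _ _
  have htt : ∀ n i j, t n j ≫ t (n + 1) i = t n i ≫ t (n + 1) j := by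
    intro n i j
    rw [← cancel_mono (kernel.ι (p (n + 2))), Category.assoc, Category.assoc, htι, htι,
      ← Category.assoc, htι, ← Category.assoc (t n i), htι, Category.assoc, Category.assoc, hcomm]
  have hses : ∀ n, (ShortComplex.mk (kernel.ι (p n)) (p n) (kernel.condition _)).ShortExact := fun n =>
    haveI := hepi n
    { exact := ShortComplex.exact_kernel _, mono_f := inferInstance, epi_g := inferInstance }
  -- the maps along monomials
  choose w hw using exists_word hG a ha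
  have hwp : ∀ n (s : Sym (Fin r) (n + 1)), w (n + 1) s ≫ p n = 0 := by
    intro n s
    haveI := epi_tr hG (Nat.zero_le (n + 1))
    rw [← cancel_epi (ARSys.tr G (Nat.zero_le (n + 1))), comp_zero, ← Category.assoc, hw,
      smulMod_naturality, hG.2.1 n _ (mon_mem a ha (n + 1) s), comp_zero]
  let ν : ∀ n, Sym (Fin r) (n + 1) → (G.obj (op 0) ⟶ P n) := fun n s => kernel.lift _ _ (hwp n s)
  have hν : ∀ n s, ARSys.tr G (Nat.zero_le (n + 1)) ≫ ν n s ≫ kernel.ι (p n) =
      Formal.smulMod A (G.obj (op (n + 1))) (mon a s) := fun n s => by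
    rw [kernel.lift_ι]; exact hw (n + 1) s
  have hνt : ∀ n i (s : Sym (Fin r) (n + 1)), ν (n + 1) (i ::ₛ s) = ν n s ≫ t n i := by
    intro n i s
    haveI := epi_tr hG (Nat.zero_le (n + 1 + 1))
    rw [← cancel_mono (kernel.ι (p (n + 1))), ← cancel_epi (ARSys.tr G (Nat.zero_le (n + 1 + 1))),
      hν, Category.assoc, htι, ← Category.assoc (ν n s), kernel.lift_ι,
      ← tr_trans G (Nat.zero_le (n + 1)) (Nat.le_succ (n + 1)), Category.assoc,
      ← Category.assoc (ARSys.tr G (Nat.zero_le (n + 1))), hw, mon_cons, ← Category.assoc,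
      ← smulMod_naturality, Category.assoc]
    exact (FFun.smulMod_mul _ _ _).trans (congrArg _ (hμp (n + 1) i).symm)
  have hgen : ∀ n q (x : Coh.HH X (P n) q),
      x ∈ ⨆ s : Sym (Fin r) (n + 1), LinearMap.range (mapLin A (ν n s) q) := by
    intro n q x
    obtain ⟨S, hS⟩ := hsplit n
    let νS : ULift.{u} S → (G.obj (op 0) ⟶ P n) := fun s => ν n s.down.1
    haveI : IsIso (biproduct.desc νS) := hS νS fun s => hν n s.down.1
    let T := fun _ : ULift.{u} S => G.obj (op 0)
    have hid : ∑ b, (inv (biproduct.desc νS) ≫ biproduct.π T b) ≫ νS b = 𝟙 (P n) := by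
      calc ∑ b, (inv (biproduct.desc νS) ≫ biproduct.π T b) ≫ νS b
          = inv (biproduct.desc νS) ≫ (∑ b, biproduct.π T b ≫ biproduct.ι T b) ≫ biproduct.desc νS := by
            rw [Preadditive.sum_comp, Preadditive.comp_sum]
            exact Finset.sum_congr rfl fun b _ => by rw [Category.assoc, Category.assoc, biproduct.ι_desc]
        _ = 𝟙 (P n) := by rw [QCoh.biproduct_total', Category.id_comp, IsIso.inv_hom_id]
    rw [← mapLin_id' (A := A) (P n) q x, ← hid, mapLin_sum']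
    refine Submodule.sum_mem _ fun b _ => ?_
    rw [← FFun.mapLin_comp]
    exact le_iSup (fun s => LinearMap.range (mapLin A (ν n s) q)) b.down.1 ⟨_, rfl⟩
  have hgen' : ∀ n q, ⨆ i, LinearMap.range (mapLin A (t n i) q) = ⊤ := by
    intro n q
    refine eq_top_iff.2 fun x _ => ?_
    refine (iSup_le fun s => ?_ : (⨆ s : Sym (Fin r) (n + 1 + 1), LinearMap.range (mapLin A (ν (n + 1) s) q)) ≤ _)
      (hgen (n + 1) q x)
    obtain ⟨i, s', rfl⟩ := Sym.exists_eq_cons_of_succ s
    rintro _ ⟨y, rfl⟩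
    refine le_iSup (fun i => LinearMap.range (mapLin A (t n i) q)) i ⟨mapLin A (ν n s') q y, ?_⟩
    rw [FFun.mapLin_comp, hνt]
  have hfin : ∀ q, Module.Finite A (Coh.HH X (G.obj (op 0)) q) → Module.Finite A (Coh.HH X (P 0) q) := by
    intro q hq
    haveI := hq
    refine ⟨?_⟩
    rw [show (⊤ : Submodule A (Coh.HH X (P 0) q)) = ⨆ s, LinearMap.range (mapLin A (ν 0 s) q) from
      le_antisymm (fun x _ => hgen 0 q x) le_top]
    exact Submodule.fg_iSup _ fun s => by rw [← Submodule.map_top]; exact (Module.Finite.fg_top).map _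
  let M : ∀ n, Fin r → (Y.obj (op n) →ₗ[A] Y.obj (op (n + 1))) := fun n i =>
    (e (n + 1)).toLinearMap.comp ((mapLin A (μ n i) 0).comp (e n).symm.toLinearMap)
  have hM : ∀ n i (x : Coh.HH X (G.obj (op n)) 0), M n i (e n x) = e (n + 1) (mapLin A (μ n i) 0 x) :=
    fun n i x => congrArg (fun z => e (n + 1) (mapLin A (μ n i) 0 z)) ((e n).symm_apply_apply x)
  have hker : ∀ n (x : Coh.HH X (G.obj (op (n + 1))) 0), ARSys.tr Y (Nat.le_succ n) (e (n + 1) x) = 0 ↔
      ∃ z : Coh.HH X (P n) 0, mapLin A (kernel.ι (p n)) 0 z = x := by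
    intro n x
    rw [he, LinearEquiv.map_eq_zero_iff]
    refine ⟨fun h => exists_of_mapLin_g_eq_zero (hses n) 0 h, ?_⟩
    rintro ⟨z, rfl⟩
    rw [FFun.mapLin_comp, FFun.mapLin_congr (kernel.condition _)]
    exact mapLin_zero' _ _ _ _
  refine criterion I a ha Y ?_ M ?_ ?_ ?_ (fun n => Coh.HH X (P n) 1) (fun n i => mapLin A (t n i) 1) ?_
    (fun n => (deltaLin A (hses n) 0).comp (e n).symm.toLinearMap) ?_ ?_
    (Module.Finite.equiv (e 0)) (hfin 1 h1) ?_ (fun n => hgen' n 1) ?_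
  · intro i x
    obtain ⟨z, rfl⟩ := (e 0).surjective x
    rw [← map_smul, ← FFun.mapLin_smulMod, hG.2.1 0 (a i) (by simpa using ha i), mapLin_zero', map_zero]
  · intro n i x
    obtain ⟨z, rfl⟩ := (e (n + 1)).surjective x
    rw [he, hM, FFun.mapLin_comp, FFun.mapLin_congr (hμp n i), FFun.mapLin_smulMod, map_smul]
  · intro n i x
    obtain ⟨z, rfl⟩ := (e n).surjective x
    rw [hM, he, FFun.mapLin_comp, FFun.mapLin_congr (hpμ n i), FFun.mapLin_smulMod, map_smul]
  · intro n i j x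
    obtain ⟨z, rfl⟩ := (e n).surjective x
    rw [hM, hM, hM, hM, FFun.mapLin_comp, FFun.mapLin_comp, hcomm]
  · intro n i j x
    rw [FFun.mapLin_comp, FFun.mapLin_comp, htt]
  · intro n x
    obtain ⟨z, rfl⟩ := (e n).surjective x
    show deltaLin A (hses n) 0 ((e n).symm (e n z)) = 0 ↔ _
    rw [LinearEquiv.symm_apply_apply]
    constructor
    · intro h
      obtain ⟨y, hy⟩ := PnCoh.Finite.exists_of_deltaLin_eq_zero A (hses n) 0 h
      exact ⟨e (n + 1) y, by rw [he]; exact congrArg (e n) hy⟩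
    · rintro ⟨y, hy⟩
      obtain ⟨y', rfl⟩ := (e (n + 1)).surjective y
      rw [he] at hy
      exact (QCoh.Ab.connecting_eq_zero_iff (X := X.toPresheafedSpace.carrier)
        (QCoh.toAb_shortExact (hses n)) 0 z).2 ⟨y', (e n).injective hy⟩
  · intro n i x
    obtain ⟨z, rfl⟩ := (e n).surjective x
    show deltaLin A (hses (n + 1)) 0 ((e (n + 1)).symm (M n i (e n z))) =
      mapLin A (t n i) 1 (deltaLin A (hses n) 0 ((e n).symm (e n z)))
    rw [hM, LinearEquiv.symm_apply_apply, LinearEquiv.symm_apply_apply]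
    let φ : ShortComplex.mk (kernel.ι (p n)) (p n) (kernel.condition _) ⟶
        ShortComplex.mk (kernel.ι (p (n + 1))) (p (n + 1)) (kernel.condition _) :=
      { τ₁ := t n i
        τ₂ := μ (n + 1) i
        τ₃ := μ n i
        comm₁₂ := htι n i
        comm₂₃ := (hpμ (n + 1) i).trans (hμp n i).symm }
    exact (QCoh.Ab.connecting_naturality (X := X.toPresheafedSpace.carrier)
      (QCoh.toAb_shortExact (hses n)) (QCoh.toAb_shortExact (hses (n + 1)))
      ((QCoh.toAbFunctor X).mapShortComplex.map φ) 0 z).symm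
  · haveI := hfin 0 h0
    rw [show LinearMap.ker (ARSys.tr Y (Nat.le_succ 0)).hom =
        LinearMap.range ((e 1).toLinearMap.comp (mapLin A (kernel.ι (p 0)) 0)) from ?_]
    · exact Module.Finite.iff_fg.1 inferInstance
    · refine le_antisymm (fun x hx => ?_) ?_
      · obtain ⟨z, rfl⟩ := (e 1).surjective x
        obtain ⟨v, rfl⟩ := (hker 0 z).1 hx
        exact ⟨v, rfl⟩
      · rintro _ ⟨v, rfl⟩
        exact (hker 0 _).2 ⟨v, rfl⟩
  · intro n x hx
    obtain ⟨z, rfl⟩ := (e (n + 1 + 1)).surjective x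
    obtain ⟨v, rfl⟩ := (hker (n + 1) z).1 hx
    obtain ⟨f, hf, rfl⟩ := (Submodule.mem_iSup_iff_exists_finsupp _ _).1
      (show v ∈ _ from (hgen' n 0).ge Submodule.mem_top)
    choose y hy using hf
    rw [Finsupp.sum_fintype f _ fun _ => rfl, map_sum, map_sum]
    refine Submodule.sum_mem _ fun i _ => le_iSup (fun i => (LinearMap.ker (ARSys.tr Y (Nat.le_succ n)).hom).map
      (M (n + 1) i)) i ⟨e (n + 1) (mapLin A (kernel.ι (p n)) 0 (y i)), (hker n _).2 ⟨_, rfl⟩, ?_⟩
    rw [hM, FFun.mapLin_comp, ← hy i, FFun.mapLin_comp, htι]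

end Groth.Agent.Algz7.Canon2
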