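import Mathlib
import Groth.Prelude.Def_Algz2
import Groth.Prelude.Def_DerSch
import Groth.Agent.KFlatLib.Scheme.Exact
import Groth.Agent.Adic7.Limit
import Groth.Agent.Algz7.Canon2.Sheaf

/-! Reading the graded pieces of an object of Coh(X, I) on completed stalks. -/

set_option autoImplicit false
set_option backward.isDefEq.respectTransparency false
set_option backward.isDefEq.respectTransparency.types false
universe u

open CategoryTheory CategoryTheory.Limits AlgebraicGeometry Opposite

noncomputable section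

attribute [local instance] Groth.Agent.QCoh.hasFiniteBiproducts

namespace Groth.Agent.Algz7.Canon2

variable {A : Type u} [CommRing A] {X : Scheme.{u}} [X.Over (Spec (CommRingCat.of A))]

instance stalkFunctor_additive (y : X) : (DerSch.stalkFunctor X y).Additive :=
  Functor.additive_of_preserves_binary_products _

theorem stalk_smulMod (M : X.Modules) (a : A) (y : X) (v : M.presheaf.stalk y) :
    Algz.stalkMapₗ (Formal.smulMod A M a) y v = Algz.toStalk A X y a • v := by
  obtain ⟨W, hW, m, rfl⟩ := M.presheaf.exists_germ_eq (x := y) v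
  refine (DerSch.stalkFunctor_map_germ y (Formal.smulMod A M a) W hW m).trans ?_
  rw [FFun.smulMod_app, QCoh.germ_smul']
  congr 1
  exact X.presheaf.germ_res_apply (homOfLE le_top) y hW (Coh.toGlobal (X ↘ Spec (CommRingCat.of A)) a)

theorem stalk_comp {M N P : X.Modules} (φ : M ⟶ N) (ψ : N ⟶ P) (y : X) (v : M.presheaf.stalk y) :
    Algz.stalkMapₗ (φ ≫ ψ) y v = Algz.stalkMapₗ ψ y (Algz.stalkMapₗ φ y v) :=
  congr($((DerSch.stalkFunctor X y).map_comp φ ψ) v)

theorem stalk_zero {M N : X.Modules} (y : X) (v : M.presheaf.stalk y) :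
    Algz.stalkMapₗ (0 : M ⟶ N) y v = 0 :=
  congr($((DerSch.stalkFunctor X y).map_zero M N) v)

theorem stalk_sum {M N : X.Modules} {κ : Type*} (s : Finset κ) (φ : κ → (M ⟶ N)) (y : X)
    (v : M.presheaf.stalk y) :
    Algz.stalkMapₗ (∑ b ∈ s, φ b) y v = ∑ b ∈ s, Algz.stalkMapₗ (φ b) y v := by
  classical
  induction s using Finset.induction with
  | empty => rw [Finset.sum_empty, Finset.sum_empty]; exact stalk_zero y v
  | insert b s hb ih =>
    rw [Finset.sum_insert hb, Finset.sum_insert hb, ← ih]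
    exact congr($((DerSch.stalkFunctor X y).map_add) v)

theorem stalk_id (M : X.Modules) (y : X) (v : M.presheaf.stalk y) : Algz.stalkMapₗ (𝟙 M) y v = v :=
  congr($((DerSch.stalkFunctor X y).map_id M) v)

theorem stalk_surjective {M N : X.Modules} (φ : M ⟶ N) [Epi φ] (y : X) :
    Function.Surjective (Algz.stalkMapₗ φ y) :=
  (ModuleCat.epi_iff_surjective ((DerSch.stalkFunctor X y).map φ)).1 inferInstance

theorem stalk_injective {M N : X.Modules} (φ : M ⟶ N) [Mono φ] (y : X) :
    Function.Injective (Algz.stalkMapₗ φ y) :=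
  (ModuleCat.mono_iff_injective ((DerSch.stalkFunctor X y).map φ)).1 inferInstance

theorem stalk_exact (S : ShortComplex X.Modules) (hS : S.Exact) (y : X) :
    LinearMap.ker (Algz.stalkMapₗ S.g y) = LinearMap.range (Algz.stalkMapₗ S.f y) :=
  (((KFlatLib.exact_iff_stalk S).1 hS y).moduleCat_range_eq_ker).symm

variable {I : Ideal A} {G : ℕᵒᵖ ⥤ X.Modules}

theorem smul_stalk_eq_zero (hG : Formal.IsCohFormal I G) (y : X) (n : ℕ) :
    Algz.stalkIdeal I y ^ (n + 1) • (⊤ : Submodule (X.presheaf.stalk y) ((G.obj (op n)).presheaf.stalk y)) = ⊥ := by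
  rw [eq_bot_iff, Algz.stalkIdeal, ← Ideal.map_pow, Submodule.smul_le]
  intro r hr v _
  have hle : Ideal.map (Algz.toStalk A X y) (I ^ (n + 1)) ≤
      (⊥ : Submodule (X.presheaf.stalk y) ((G.obj (op n)).presheaf.stalk y)).colon {v} :=
    Ideal.map_le_iff_le_comap.2 fun b hb => by
      rw [Ideal.mem_comap, Submodule.mem_colon_singleton, ← stalk_smulMod, hG.2.1 n b hb, stalk_zero]
      exact zero_mem _
  exact Submodule.mem_colon_singleton.1 (hle hr)

theorem ker_stalk_step (hG : Formal.IsCohFormal I G) (y : X) (n : ℕ) :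
    LinearMap.ker (Algz.stalkMapₗ (ARSys.tr G (Nat.le_succ n)) y) =
      Algz.stalkIdeal I y ^ (n + 1) • ⊤ := by
  obtain ⟨h0, hiso⟩ := hG.2.2 n
  haveI := hiso
  let F := DerSch.stalkFunctor X y
  let S := ShortComplex.mk _ (ARSys.tr G (Nat.le_succ n)) h0
  have hS : S.Exact := S.exact_of_g_is_cokernel
    ((cokernelIsCokernel _).ofIsoColimit (Cofork.ext (asIso (cokernel.desc _ _ h0)) (cokernel.π_desc _ _ h0)))
  rw [stalk_exact S hS y]
  refine le_antisymm ?_ ?_
  · let q := (Algz.stalkIdeal I y ^ (n + 1) • (⊤ : Submodule (X.presheaf.stalk y)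
      ((G.obj (op (n + 1))).presheaf.stalk y))).mkQ
    have h : F.map (Formal.smulFamily (I ^ (n + 1)) (G.obj (op (n + 1)))) ≫ ModuleCat.ofHom q = 0 := by
      let T := fun _ : ↥(I ^ (n + 1)) => G.obj (op (n + 1))
      refine (isColimitOfPreserves F (colimit.isColimit (Discrete.functor T))).hom_ext fun ⟨b⟩ => ?_
      show F.map (Sigma.ι T b) ≫ F.map _ ≫ ModuleCat.ofHom q = F.map (Sigma.ι T b) ≫ 0
      rw [← Category.assoc, ← F.map_comp, Formal.smulFamily, Sigma.ι_desc, comp_zero]
      refine ModuleCat.hom_ext (LinearMap.ext fun v => (Submodule.Quotient.mk_eq_zero _).2 ?_)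
      have hv : Algz.stalkMapₗ (Formal.smulMod A (G.obj (op (n + 1))) (b : A)) y v ∈
          Algz.stalkIdeal I y ^ (n + 1) • (⊤ : Submodule (X.presheaf.stalk y)
            ((G.obj (op (n + 1))).presheaf.stalk y)) := by
        rw [stalk_smulMod]
        refine Submodule.smul_mem_smul ?_ Submodule.mem_top
        rw [Algz.stalkIdeal, ← Ideal.map_pow]
        exact Ideal.mem_map_of_mem _ b.2
      exact hv
    rintro _ ⟨v, rfl⟩
    exact (Submodule.Quotient.mk_eq_zero _).1 congr($h v)
  · rw [← stalk_exact S hS y, Submodule.smul_le]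
    intro r hr v _
    show Algz.stalkMapₗ (ARSys.tr G (Nat.le_succ n)) y (r • v) = 0
    rw [map_smul]
    exact (Submodule.eq_bot_iff _).1 (smul_stalk_eq_zero hG y n) _ (Submodule.smul_mem_smul hr Submodule.mem_top)

theorem ker_stalk_zero (hG : Formal.IsCohFormal I G) (y : X) : ∀ n : ℕ,
    LinearMap.ker (Algz.stalkMapₗ (ARSys.tr G (Nat.zero_le n)) y) = Algz.stalkIdeal I y • ⊤ := by
  intro n
  induction n with
  | zero =>
    rw [show Algz.stalkIdeal I y = Algz.stalkIdeal I y ^ (0 + 1) from (pow_one _).symm, smul_stalk_eq_zero hG y 0,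
      LinearMap.ker_eq_bot]
    intro v w h
    rw [tr_refl] at h
    exact (congr($((DerSch.stalkFunctor X y).map_id (G.obj (op 0))) v).symm.trans h).trans
      congr($((DerSch.stalkFunctor X y).map_id (G.obj (op 0))) w)
  | succ n ih =>
    haveI := epi_step hG n
    have hs := LinearMap.range_eq_top.2 (stalk_surjective (ARSys.tr G (Nat.le_succ n)) y)
    have e : Algz.stalkMapₗ (ARSys.tr G (Nat.zero_le (n + 1))) y =
        (Algz.stalkMapₗ (ARSys.tr G (Nat.zero_le n)) y).comp (Algz.stalkMapₗ (ARSys.tr G (Nat.le_succ n)) y) := by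
      ext v
      rw [LinearMap.comp_apply, ← stalk_comp, tr_trans]
    rw [e, LinearMap.ker_comp, ih]
    conv_lhs => rw [← hs, ← Submodule.map_top, ← Submodule.map_smul'', Submodule.comap_map_eq]
    refine sup_eq_left.2 ?_
    rw [ker_stalk_step hG y n]
    exact Submodule.smul_mono (Ideal.pow_le_self (Nat.succ_ne_zero n)) le_rfl

theorem exists_hatStalk_proj [IsNoetherianRing A] (hG : Formal.IsCohFormal I G) (y : X) :
    ∃ π : ∀ n, ↥(Algz.hatStalk I G y) →ₗ[X.presheaf.stalk y] (G.obj (op n)).presheaf.stalk y,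
      (∀ n, Function.Surjective (π n) ∧
        LinearMap.ker (π n) = Algz.stalkIdeal I y ^ (n + 1) • ⊤) ∧
      ∀ n x, AdicCompletion.of (Algz.stalkIdeal I y) _ (π n x) = x.1 n := by
  have hcompl : ∀ n, IsAdicComplete (Algz.stalkIdeal I y) ((G.obj (op n)).presheaf.stalk y) := fun n =>
    { haus' := fun x hx => by
        have h := SModEq.zero.1 (hx (n + 1))
        rw [smul_stalk_eq_zero hG y n] at h
        exact h
      prec' := fun f hf => by
        refine ⟨f (n + 1), fun m => ?_⟩
        rcases le_total m (n + 1) with h | h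
        · exact hf h
        · have e := hf h
          rw [smul_stalk_eq_zero hG y n, SModEq.bot] at e
          rw [e] }
  let e := fun n => letI := hcompl n; AdicCompletion.ofLinearEquiv (Algz.stalkIdeal I y) ((G.obj (op n)).presheaf.stalk y)
  have he : ∀ n v, e n v = AdicCompletion.of (Algz.stalkIdeal I y) _ v := fun n v => rfl
  let π : ∀ n, ↥(Algz.hatStalk I G y) →ₗ[X.presheaf.stalk y] (G.obj (op n)).presheaf.stalk y := fun n =>
    { toFun := fun x => (e n).symm (x.1 n)
      map_add' := fun x x' => by simp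
      map_smul' := fun r x => by simp }
  have hπ : ∀ n x, AdicCompletion.of (Algz.stalkIdeal I y) _ (π n x) = x.1 n := fun n x => by
    rw [← he]; exact (e n).apply_symm_apply _
  have hof : ∀ n v, Algz.hatTrans I G y n (AdicCompletion.of _ _ v) =
      AdicCompletion.of (Algz.stalkIdeal I y) _ (Algz.stalkMapₗ (ARSys.tr G (Nat.le_succ n)) y v) := fun n v =>
    AdicCompletion.map_of (Algz.stalkIdeal I y) (Algz.stalkMapₗ (ARSys.tr G (Nat.le_succ n)) y) v
  refine ⟨π, ?_, hπ⟩
  haveI : ∀ n, Epi (ARSys.tr G (Nat.le_succ n)) := fun n => epi_step hG n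
  refine (Adic7.limit_quotient_system (X.presheaf.stalk y) (Algz.stalkIdeal I y)
    (Ideal.FG.map (IsNoetherian.noetherian I) (Algz.toStalk A X y))
    (fun n => (G.obj (op n)).presheaf.stalk y) (fun n => Algz.stalkMapₗ (ARSys.tr G (Nat.le_succ n)) y)
    (fun n => stalk_surjective _ y) (fun n => ker_stalk_step hG y n) _ π (fun n => ?_) (fun x hx => ?_)
    (fun v hv => ?_)).2.1
  · refine LinearMap.ext fun x => (e n).injective ?_
    rw [he, he, hπ, LinearMap.comp_apply, ← hof, hπ]
    exact x.2 n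
  · refine Subtype.ext (funext fun n => ?_)
    rw [← hπ n x, hx n, map_zero]
    rfl
  · refine ⟨⟨fun n => AdicCompletion.of _ _ (v n), fun n => ?_⟩, fun n => (e n).injective ?_⟩
    · rw [hof, hv]
    · rw [he, he, hπ]

/-- The graded pieces split along monomials when they do so on completed stalks. -/
theorem isIso_desc_of_hatStalk [IsNoetherianRing A] (hG : Formal.IsCohFormal I G) {r : ℕ} (a : Fin r → A)
    (n : ℕ) (S : Finset (Sym (Fin r) (n + 1)))
    (hloc : ∀ y : X, Algz.stalkIdeal I y ≠ ⊤ →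
      (Algz.stalkIdeal I y ^ (n + 1) • (⊤ : Submodule (X.presheaf.stalk y) ↥(Algz.hatStalk I G y)) ≤
        (⨆ b : S, LinearMap.range (Algz.toStalk A X y (mon a b.1) •
          (LinearMap.id : ↥(Algz.hatStalk I G y) →ₗ[X.presheaf.stalk y] _))) ⊔
          Algz.stalkIdeal I y ^ (n + 2) • ⊤) ∧
      ∀ w : S → ↥(Algz.hatStalk I G y),
        ∑ b, Algz.toStalk A X y (mon a b.1) • w b ∈
          Algz.stalkIdeal I y ^ (n + 2) • (⊤ : Submodule (X.presheaf.stalk y) ↥(Algz.hatStalk I G y)) →
        ∀ b, w b ∈ Algz.stalkIdeal I y • (⊤ : Submodule (X.presheaf.stalk y) ↥(Algz.hatStalk I G y)))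
    (ν : ULift.{u} S → (G.obj (op 0) ⟶ kernel (ARSys.tr G (Nat.le_succ n))))
    (hν : ∀ s, ARSys.tr G (Nat.zero_le (n + 1)) ≫ ν s ≫ kernel.ι (ARSys.tr G (Nat.le_succ n)) =
      Formal.smulMod A (G.obj (op (n + 1))) (mon a s.down.1)) :
    IsIso (biproduct.desc ν) := by
  classical
  let ι := kernel.ι (ARSys.tr G (Nat.le_succ n))
  let T := fun _ : ULift.{u} S => G.obj (op 0)
  refine KFlatLib.isIso_of_stalk _ fun y => (ConcreteCategory.isIso_iff_bijective _).2 ?_
  change Function.Bijective (Algz.stalkMapₗ (biproduct.desc ν) y)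
  haveI := epi_step hG n
  haveI := epi_tr hG (Nat.zero_le (n + 1))
  let J := Algz.stalkIdeal I y
  let O := X.presheaf.stalk y
  let N := (G.obj (op (n + 1))).presheaf.stalk y
  have hkerι : LinearMap.range (Algz.stalkMapₗ ι y) = J ^ (n + 1) • (⊤ : Submodule O N) :=
    (stalk_exact _ (ShortComplex.exact_kernel (ARSys.tr G (Nat.le_succ n))) y).symm.trans (ker_stalk_step hG y n)
  have htot : ∀ v, v = ∑ b, Algz.stalkMapₗ (biproduct.ι T b) y (Algz.stalkMapₗ (biproduct.π T b) y v) := by
    intro v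
    have h := stalk_sum Finset.univ (fun b => biproduct.π T b ≫ biproduct.ι T b) y v
    rw [QCoh.biproduct_total', stalk_id] at h
    exact h.trans (Finset.sum_congr rfl fun b _ => stalk_comp _ _ _ _)
  have hdesc : ∀ (b : ULift.{u} S) (z : N),
      Algz.stalkMapₗ ι y (Algz.stalkMapₗ (biproduct.desc ν) y (Algz.stalkMapₗ (biproduct.ι T b) y
        (Algz.stalkMapₗ (ARSys.tr G (Nat.zero_le (n + 1))) y z))) = Algz.toStalk A X y (mon a b.down.1) • z := by
    intro b z
    rw [← stalk_comp, ← stalk_comp, ← stalk_comp, biproduct.ι_desc_assoc, hν, stalk_smulMod]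
  have hs0 := stalk_surjective (ARSys.tr G (Nat.zero_le (n + 1))) y
  by_cases hJ : J = ⊤
  · have h0 : ∀ m, ∀ z : (G.obj (op m)).presheaf.stalk y, z = 0 := fun m z => by
      have h := smul_stalk_eq_zero hG y m
      rw [show Algz.stalkIdeal I y = ⊤ from hJ, Ideal.top_pow, Submodule.top_smul] at h
      exact (Submodule.eq_bot_iff _).1 h z trivial
    refine ⟨fun v v' _ => ?_, fun v => ⟨0, ?_⟩⟩
    · rw [htot v, htot v']
      exact Finset.sum_congr rfl fun b _ => congrArg _ ((h0 0 _).trans (h0 0 _).symm)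
    · refine stalk_injective ι y ?_
      exact (h0 _ _).trans (h0 _ _).symm
  · obtain ⟨π, hπ, -⟩ := exists_hatStalk_proj hG y
    obtain ⟨hsp, hinj⟩ := hloc y hJ
    obtain ⟨hπs, hπk⟩ := hπ (n + 1)
    constructor
    · rw [← LinearMap.ker_eq_bot, Submodule.eq_bot_iff]
      intro v hv
      choose z hz using fun b => hs0 (Algz.stalkMapₗ (biproduct.π T b) y v)
      choose w hw using fun b => hπs (z b)
      have hsum : ∑ b, Algz.toStalk A X y (mon a b.down.1) • z b = 0 := by
        have h := congrArg (fun t => Algz.stalkMapₗ ι y (Algz.stalkMapₗ (biproduct.desc ν) y t)) (htot v)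
        simp only [map_sum, show Algz.stalkMapₗ (biproduct.desc ν) y v = 0 from hv, map_zero] at h
        refine Eq.trans (Finset.sum_congr rfl fun b _ => ?_) h.symm
        rw [← hdesc, hz]
      have hw0 := hinj (fun b => w ⟨b⟩) (by
        rw [← hπk, LinearMap.mem_ker, map_sum]
        refine Eq.trans ?_ hsum
        refine Fintype.sum_equiv Equiv.ulift.symm _ _ fun b => ?_
        rw [map_smul, hw]
        rfl)
      rw [htot v]
      refine Finset.sum_eq_zero fun b _ => ?_
      have hb : z b ∈ J • (⊤ : Submodule O N) := by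
        rw [← hw b]
        have h := Submodule.mem_map_of_mem (f := π (n + 1)) (hw0 b.down)
        rw [Submodule.map_smul''] at h
        exact Submodule.smul_mono le_rfl le_top h
      rw [← ker_stalk_zero hG y (n + 1), LinearMap.mem_ker] at hb
      rw [← hz, hb, map_zero]
    · intro k
      have hk : Algz.stalkMapₗ ι y k ∈ J ^ (n + 1) • (⊤ : Submodule O N) := hkerι ▸ ⟨k, rfl⟩
      obtain ⟨x, hx⟩ : ∃ x ∈ J ^ (n + 1) • (⊤ : Submodule O ↥(Algz.hatStalk I G y)),
          π (n + 1) x = Algz.stalkMapₗ ι y k := by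
        rw [← LinearMap.range_eq_top.2 hπs, ← Submodule.map_top, ← Submodule.map_smul''] at hk
        exact hk
      obtain ⟨x₁, hx₁, x₂, hx₂, hx12⟩ := Submodule.mem_sup.1 (hsp hx.1)
      obtain ⟨f, hf, hfs⟩ := (Submodule.mem_iSup_iff_exists_finsupp _ _).1 hx₁
      choose u hu using hf
      refine ⟨∑ b : ULift.{u} S, Algz.stalkMapₗ (biproduct.ι T b) y
        (Algz.stalkMapₗ (ARSys.tr G (Nat.zero_le (n + 1))) y (π (n + 1) (u b.down))), stalk_injective ι y ?_⟩
      rw [map_sum, map_sum, ← hx.2, ← hx12, map_add, show π (n + 1) x₂ = 0 from hπk.ge hx₂, add_zero,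
        ← hfs, Finsupp.sum_fintype f _ fun _ => rfl, map_sum]
      refine Fintype.sum_equiv Equiv.ulift _ _ fun b => ?_
      rw [hdesc, Equiv.ulift_apply, ← hu b.down, LinearMap.smul_apply, map_smul]
      rfl

end Groth.Agent.Algz7.Canon2
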