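import Mathlib
import Groth.Agent.Algz7.Canon2.Main

/-! Canonical extension for systems flat over a local ring. -/

set_option autoImplicit false
set_option backward.isDefEq.respectTransparency false
set_option backward.isDefEq.respectTransparency.types false
universe u v

open CategoryTheory AlgebraicGeometry Opposite

noncomputable section

namespace Groth.Agent.Algz7.Canon2

/-- A set of monomials giving a basis of a graded piece of a local ring. -/
theorem exists_monomial_basis {R : Type u} [CommRing R] [IsLocalRing R] {k : ℕ} (r : Fin k → R)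
    (hr : Ideal.span (Set.range r) = IsLocalRing.maximalIdeal R) (n : ℕ) :
    ∃ S : Finset (Sym (Fin k) n),
      IsLocalRing.maximalIdeal R ^ n ≤ Ideal.span ((fun s => mon r s) '' (S : Set (Sym (Fin k) n))) ⊔
        IsLocalRing.maximalIdeal R ^ (n + 1) ∧
      ∀ c : S → R, ∑ b, c b * mon r b.1 ∈ IsLocalRing.maximalIdeal R ^ (n + 1) →
        ∀ b, c b ∈ IsLocalRing.maximalIdeal R := by
  classical
  let m := IsLocalRing.maximalIdeal R
  let P : Finset (Sym (Fin k) n) → Prop := fun S =>
    m ^ n ≤ Ideal.span ((fun s => mon r s) '' (S : Set (Sym (Fin k) n))) ⊔ m ^ (n + 1)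
  have hne : (Finset.univ.filter P).Nonempty := by
    refine ⟨Finset.univ, Finset.mem_filter.2 ⟨Finset.mem_univ _, ?_⟩⟩
    show m ^ n ≤ _
    rw [Finset.coe_univ, Set.image_univ]
    refine le_trans ?_ le_sup_left
    have h := pow_le_span_mon r n
    rwa [hr] at h
  obtain ⟨S, hS, hmin⟩ := Finset.exists_min_image _ Finset.card hne
  rw [Finset.mem_filter] at hS
  refine ⟨S, hS.2, fun c hc b => ?_⟩
  by_contra hb
  rw [IsLocalRing.notMem_maximalIdeal] at hb
  obtain ⟨e, he⟩ := hb.exists_left_inv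
  have hb' : mon r b.1 ∈ Ideal.span ((fun s => mon r s) '' ((S.erase b.1 : Finset _) : Set (Sym (Fin k) n))) ⊔
      m ^ (n + 1) := by
    rw [← Finset.add_sum_erase _ _ (Finset.mem_univ b)] at hc
    rw [show mon r b.1 = e * (c b * mon r b.1 + ∑ x ∈ Finset.univ.erase b, c x * mon r x.1) -
      e * ∑ x ∈ Finset.univ.erase b, c x * mon r x.1 by
        rw [mul_add, add_sub_cancel_right, ← mul_assoc, he, one_mul]]
    refine sub_mem (Submodule.mem_sup_right (Ideal.mul_mem_left _ e hc)) (Submodule.mem_sup_left ?_)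
    refine Ideal.mul_mem_left _ e (Ideal.sum_mem _ fun x hx => Ideal.mul_mem_left _ _ (Ideal.subset_span ?_))
    exact ⟨x.1, Finset.mem_coe.2 (Finset.mem_erase.2 ⟨fun h => (Finset.mem_erase.1 hx).1 (Subtype.ext h), x.2⟩), rfl⟩
  have hP : P (S.erase b.1) := by
    refine hS.2.trans (sup_le (Ideal.span_le.2 ?_) le_sup_right)
    rintro _ ⟨s, hs, rfl⟩
    by_cases h : s = b.1
    · subst h; exact hb'
    · exact Submodule.mem_sup_left (Ideal.subset_span ⟨s, Finset.mem_coe.2 (Finset.mem_erase.2 ⟨h, hs⟩), rfl⟩)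
  exact absurd (hmin _ (Finset.mem_filter.2 ⟨Finset.mem_univ _, hP⟩))
    (not_le.2 (Finset.card_erase_lt_of_mem b.2))

/-- The conditions on a module flat over a local ring, after base change along `R → O`. -/
theorem split_conditions {R O : Type u} [CommRing R] [IsLocalRing R] [CommRing O] [Algebra R O]
    {M : Type v} [AddCommGroup M] [Module R M] [Module O M] [IsScalarTower R O M] [Module.Flat R M]
    {k n : ℕ} (r : Fin k → R) (hr : Ideal.span (Set.range r) = IsLocalRing.maximalIdeal R)
    (S : Finset (Sym (Fin k) n))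
    (hS1 : IsLocalRing.maximalIdeal R ^ n ≤ Ideal.span ((fun s => mon r s) '' (S : Set (Sym (Fin k) n))) ⊔
        IsLocalRing.maximalIdeal R ^ (n + 1))
    (hS2 : ∀ c : S → R, ∑ b, c b * mon r b.1 ∈ IsLocalRing.maximalIdeal R ^ (n + 1) →
        ∀ b, c b ∈ IsLocalRing.maximalIdeal R)
    (J : Ideal O) (hJ : J = (IsLocalRing.maximalIdeal R).map (algebraMap R O)) :
    (J ^ n • (⊤ : Submodule O M) ≤
        (⨆ b : S, LinearMap.range (algebraMap R O (mon r b.1) • (LinearMap.id : M →ₗ[O] M))) ⊔
          J ^ (n + 1) • ⊤) ∧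
      ∀ w : S → M, ∑ b, algebraMap R O (mon r b.1) • w b ∈ J ^ (n + 1) • (⊤ : Submodule O M) →
        ∀ b, w b ∈ J • (⊤ : Submodule O M) := by
  let m := IsLocalRing.maximalIdeal R
  have hres : ∀ (j : ℕ) (x : M), x ∈ J ^ j • (⊤ : Submodule O M) ↔ x ∈ m ^ j • (⊤ : Submodule R M) := by
    intro j x
    rw [hJ, ← Ideal.map_pow, ← Submodule.restrictScalars_mem R, Ideal.smul_restrictScalars, Submodule.restrictScalars_top]
  refine ⟨?_, fun w hw b => ?_⟩
  · rw [hJ, ← Ideal.map_pow, ← Ideal.map_pow, Submodule.smul_le]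
    intro s hs z _
    have h := Ideal.map_mono (f := algebraMap R O) hS1 hs
    rw [Ideal.map_sup, Ideal.map_span] at h
    obtain ⟨s₁, h₁, s₂, h₂, rfl⟩ := Submodule.mem_sup.1 h
    rw [add_smul]
    refine add_mem (Submodule.mem_sup_left ?_) (Submodule.mem_sup_right (Submodule.smul_mem_smul h₂ trivial))
    clear h hs
    induction h₁ using Submodule.span_induction with
    | mem x hx =>
      obtain ⟨_, ⟨b, hb, rfl⟩, rfl⟩ := hx
      exact Submodule.mem_iSup_of_mem ⟨b, Finset.mem_coe.1 hb⟩ ⟨z, rfl⟩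
    | zero => rw [zero_smul]; exact zero_mem _
    | add x y _ _ hx hy => rw [add_smul]; exact add_mem hx hy
    | smul c x _ hx => rw [smul_assoc]; exact Submodule.smul_mem _ c hx
  · rw [hres] at hw
    have hmb : ∀ i : S, mon r i.1 ∈ m ^ n := fun i => by
      have h := mon_mem_span r n i.1
      rwa [hr] at h
    have h := flat_split (M := M) m n (fun i : S => mon r i.1) hmb hS2 w (by
      simpa only [algebraMap_smul] using hw) b
    have h' := (hres 1 (w b)).2 (by rwa [pow_one])
    rwa [pow_one] at h'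

variable {A : Type u} [CommRing A]

theorem canonicallyExtends_of_flat [IsNoetherianRing A] (U : (Spec (CommRingCat.of A)).Opens) (I : Ideal A)
    {G : ℕᵒᵖ ⥤ (U : Scheme.{u}).Modules} (hG : Formal.IsCohFormal I G)
    (R : Type u) [CommRing R] [IsNoetherianRing R] [IsLocalRing R] (φ : R →+* A)
    (hI : I = Ideal.map φ (IsLocalRing.maximalIdeal R))
    (h : ∀ (y : (U : Scheme.{u})), U.ι.base y ∈ PrimeSpectrum.zeroLocus (R := A) I →
      letI : Module R ↥(Algz.hatStalk I G y) := Module.compHom ↥(Algz.hatStalk I G y)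
        ((algebraMap ((U : Scheme.{u}).presheaf.stalk y) (Algz.hatRing I y)).comp
          ((Algz.toStalk A (U : Scheme.{u}) y).comp φ));
      Module.Flat R ↥(Algz.hatStalk I G y))
    (h0 : Module.Finite A (Coh.HH (U : Scheme.{u}) (G.obj (op 0)) 0))
    (h1 : Module.Finite A (Coh.HH (U : Scheme.{u}) (G.obj (op 0)) 1)) :
    Algz.CanonicallyExtends A I U G := by
  classical
  obtain ⟨k, r, hr⟩ := Submodule.fg_iff_exists_fin_generating_family.1
    (IsNoetherian.noetherian (IsLocalRing.maximalIdeal R))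
  choose S hS1 hS2 using fun n => exists_monomial_basis r hr (n + 1)
  have ha : ∀ i, φ (r i) ∈ I := fun i => hI ▸ Ideal.mem_map_of_mem φ (hr ▸ Ideal.subset_span ⟨i, rfl⟩)
  refine canonicallyExtends_of_hatStalk U I hG (fun i => φ (r i)) ha S (fun y hy n => ?_) h0 h1
  let ψ : R →+* (U : Scheme.{u}).presheaf.stalk y := (Algz.toStalk A (U : Scheme.{u}) y).comp φ
  letI : Algebra R ((U : Scheme.{u}).presheaf.stalk y) := ψ.toAlgebra
  letI : Module R ↥(Algz.hatStalk I G y) := Module.compHom ↥(Algz.hatStalk I G y)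
        ((algebraMap ((U : Scheme.{u}).presheaf.stalk y) (Algz.hatRing I y)).comp ψ)
  haveI : IsScalarTower R ((U : Scheme.{u}).presheaf.stalk y) ↥(Algz.hatStalk I G y) :=
    IsScalarTower.of_algebraMap_smul fun c x =>
      (algebraMap_smul (Algz.hatRing I y) (ψ c) x).symm
  haveI : Module.Flat R ↥(Algz.hatStalk I G y) := h y hy
  have hmon : ∀ s : Sym (Fin k) (n + 1), Algz.toStalk A (U : Scheme.{u}) y (mon (fun i => φ (r i)) s) =
      algebraMap R ((U : Scheme.{u}).presheaf.stalk y) (mon r s) := by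
    intro s
    rw [mon, mon, map_multiset_prod, map_multiset_prod, Multiset.map_map, Multiset.map_map]
    rfl
  have hJ : Algz.stalkIdeal I y =
      (IsLocalRing.maximalIdeal R).map (algebraMap R ((U : Scheme.{u}).presheaf.stalk y)) :=
    (congrArg (Ideal.map (Algz.toStalk A (U : Scheme.{u}) y)) hI).trans (Ideal.map_map _ _)
  have hc := split_conditions (M := ↥(Algz.hatStalk I G y)) r hr (S n) (hS1 n) (hS2 n) (Algz.stalkIdeal I y) hJ
  simp only [← hmon] at hc
  exact hc

end Groth.Agent.Algz7.Canon2
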